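import Groth.Agent.Lib.TorBal22.Basic

/-!
# `Tor` is isomorphic to its flip, as bifunctors
-/

set_option autoImplicit false
set_option linter.style.haveILetI false
set_option maxHeartbeats 1600000
universe v v' u u'

open CategoryTheory CategoryTheory.Limits MonoidalCategory HomologicalComplex ZeroObject

attribute [local instance] HasDerivedCategory.standard

namespace GrothLib.TorFlipNat

section Extend

variable {C : Type u} [Category.{v} C] [Abelian C] {D : Type u'} [Category.{v'} D] [Abelian D]
  {ι ι' : Type} {c : ComplexShape ι} {c' : ComplexShape ι'}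

theorem mapExtendIso_natural (F : C ⥤ D) [F.Additive] {K L : HomologicalComplex C c} (φ : K ⟶ L)
    (e : c.Embedding c') :
    (F.mapHomologicalComplex c').map (extendMap φ e) ≫ (TorBal22.mapExtendIso F L e).hom =
      (TorBal22.mapExtendIso F K e).hom ≫ extendMap ((F.mapHomologicalComplex c).map φ) e := by
  ext i
  show F.map (extend.mapX φ (e.r i)) ≫ (TorBal22.mapExtendApp F L (e.r i)).hom =
    (TorBal22.mapExtendApp F K (e.r i)).hom ≫ extend.mapX ((F.mapHomologicalComplex c).map φ) (e.r i)
  generalize e.r i = o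
  cases o
  · exact (F.map_isZero (isZero_zero C)).eq_of_src _ _
  · exact (Category.comp_id _).trans (Category.id_comp _).symm

theorem mapExtendIso_natural_functor {F G : C ⥤ D} [F.Additive] [G.Additive] (τ : F ⟶ G)
    (K : HomologicalComplex C c) (e : c.Embedding c') :
    (NatTrans.mapHomologicalComplex τ c').app (K.extend e) ≫ (TorBal22.mapExtendIso G K e).hom =
      (TorBal22.mapExtendIso F K e).hom ≫ extendMap ((NatTrans.mapHomologicalComplex τ c).app K) e := by
  ext i
  show τ.app (extend.X K (e.r i)) ≫ (TorBal22.mapExtendApp G K (e.r i)).hom =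
    (TorBal22.mapExtendApp F K (e.r i)).hom ≫
      extend.mapX ((NatTrans.mapHomologicalComplex τ c).app K) (e.r i)
  generalize e.r i = o
  cases o
  · exact (F.map_isZero (isZero_zero C)).eq_of_src _ _
  · exact (Category.comp_id _).trans (Category.id_comp _).symm

theorem extendHomologyIso_natural {K L : HomologicalComplex C c} (φ : K ⟶ L) (e : c.Embedding c')
    [e.IsRelIff] {j : ι} {j' : ι'} (hj' : e.f j = j') :
    homologyMap (extendMap φ e) j' ≫ (L.extendHomologyIso e hj').hom =
      (K.extendHomologyIso e hj').hom ≫ homologyMap φ j := by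
  have hc : cyclesMap (extendMap φ e) j' ≫ (L.extendCyclesIso e hj').hom =
      (K.extendCyclesIso e hj').hom ≫ cyclesMap φ j := by
    rw [← cancel_mono (L.iCycles j), Category.assoc, Category.assoc, extendCyclesIso_hom_iCycles,
      cyclesMap_i_assoc, cyclesMap_i, extendCyclesIso_hom_iCycles_assoc, extendMap_f φ e hj']
    simp
  rw [← cancel_epi ((K.extend e).homologyπ j'), homologyπ_naturality_assoc,
    homologyπ_extendHomologyIso_hom, homologyπ_extendHomologyIso_hom_assoc, homologyπ_naturality,
    reassoc_of% hc]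

end Extend

variable {A : Type u} [CommRing A]

theorem singleIso_natural_left {L L' : DRing.Cx A} (φ : L ⟶ L') (F : ModuleCat.{u} A) :
    ((tensorRight F).mapHomologicalComplex (ComplexShape.up ℤ)).map φ ≫ (KF.singleIso L' F).hom =
      (KF.singleIso L F).hom ≫ ((KF.tensorCx (R := A)).map φ).app
        ((single (ModuleCat.{u} A) (ComplexShape.up ℤ) 0).obj F) := by
  ext n : 1
  show (φ.f n ▷ F) ≫ ((L'.X n) ◁ (singleObjXSelf (ComplexShape.up ℤ) 0 F).inv ≫
      ιMapBifunctor L' _ (curriedTensor (ModuleCat.{u} A)) (ComplexShape.up ℤ) n 0 n (add_zero n)) =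
    ((L.X n) ◁ (singleObjXSelf (ComplexShape.up ℤ) 0 F).inv ≫
      ιMapBifunctor L _ (curriedTensor (ModuleCat.{u} A)) (ComplexShape.up ℤ) n 0 n (add_zero n)) ≫
      (mapBifunctorMap φ (𝟙 ((single (ModuleCat.{u} A) (ComplexShape.up ℤ) 0).obj F))
        (curriedTensor (ModuleCat.{u} A)) (ComplexShape.up ℤ)).f n
  rw [Category.assoc, ι_mapBifunctorMap, ← Category.assoc, ← whisker_exchange, Category.assoc]
  congr 1
  exact (congrArg ((φ.f n ▷ _) ≫ ·)
    ((congrArg (· ≫ _) (CategoryTheory.Functor.map_id _ _)).trans (Category.id_comp _))).symm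

theorem singleIso_natural_right (L : DRing.Cx A) {F F' : ModuleCat.{u} A} (f : F ⟶ F') :
    (NatTrans.mapHomologicalComplex ((tensoringRight (ModuleCat.{u} A)).map f) (ComplexShape.up ℤ)).app L ≫
        (KF.singleIso L F').hom =
      (KF.singleIso L F).hom ≫ ((KF.tensorCx (R := A)).obj L).map
        ((single (ModuleCat.{u} A) (ComplexShape.up ℤ) 0).map f) := by
  ext n : 1
  show (L.X n ◁ f) ≫ ((L.X n) ◁ (singleObjXSelf (ComplexShape.up ℤ) 0 F').inv ≫
      ιMapBifunctor L _ (curriedTensor (ModuleCat.{u} A)) (ComplexShape.up ℤ) n 0 n (add_zero n)) =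
    ((L.X n) ◁ (singleObjXSelf (ComplexShape.up ℤ) 0 F).inv ≫
      ιMapBifunctor L _ (curriedTensor (ModuleCat.{u} A)) (ComplexShape.up ℤ) n 0 n (add_zero n)) ≫
      (mapBifunctorMap (𝟙 L) ((single (ModuleCat.{u} A) (ComplexShape.up ℤ) 0).map f)
        (curriedTensor (ModuleCat.{u} A)) (ComplexShape.up ℤ)).f n
  rw [Category.assoc, ι_mapBifunctorMap]
  show _ = _ ≫ (𝟙 (L.X n) ▷ _) ≫ (L.X n ◁ _) ≫ _
  rw [MonoidalCategory.id_whiskerRight, Category.id_comp, ← Category.assoc,
    ← MonoidalCategory.whiskerLeft_comp, ← Category.assoc, ← MonoidalCategory.whiskerLeft_comp]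
  congr 2

theorem tensorCxSymm_natural_right (K : DRing.Cx A) {E E' : DRing.Cx A} (ψ : E ⟶ E') :
    ((KF.tensorCx (R := A)).obj K).map ψ ≫ (KF.tensorCxSymm E' K).hom =
      (KF.tensorCxSymm E K).hom ≫ ((KF.tensorCx (R := A)).map ψ).app K := by
  let Fb := (curriedTensor (ModuleCat.{u} A)).mapBifunctorHomologicalComplex (ComplexShape.up ℤ) (ComplexShape.up ℤ)
  let Fl := (curriedTensor (ModuleCat.{u} A)).flip.mapBifunctorHomologicalComplex (ComplexShape.up ℤ) (ComplexShape.up ℤ)
  have hb : ((Fb.map (𝟙 K)).app E ≫ (Fb.obj K).map ψ) ≫ (KF.bicxBraiding K E').inv =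
      (KF.bicxBraiding K E).inv ≫ ((Fl.map (𝟙 K)).app E ≫ (Fl.obj K).map ψ) := by
    rw [CategoryTheory.Functor.map_id, CategoryTheory.Functor.map_id, NatTrans.id_app, NatTrans.id_app,
      Category.id_comp, Category.id_comp]
    exact HomologicalComplex.hom_ext _ _ fun i => HomologicalComplex.hom_ext _ _ fun j =>
      (KF.tensorSymm.symm.inv.app (K.X i)).naturality (ψ.f j)
  have h1 : ((KF.tensorCx (R := A)).obj K).map ψ ≫
      (HomologicalComplex₂.total.mapIso (KF.bicxBraiding K E') (ComplexShape.up ℤ)).inv =
      (HomologicalComplex₂.total.mapIso (KF.bicxBraiding K E) (ComplexShape.up ℤ)).inv ≫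
        HomologicalComplex.mapBifunctorMap (𝟙 K) ψ (curriedTensor (ModuleCat.{u} A)).flip (ComplexShape.up ℤ) := by
    exact (HomologicalComplex₂.total.map_comp _ _ _).symm.trans
      ((congrArg (fun t => HomologicalComplex₂.total.map t (ComplexShape.up ℤ)) hb).trans
        (HomologicalComplex₂.total.map_comp _ _ _))
  have h2 := HomologicalComplex.mapBifunctorFlipIso_hom_naturality (K₂ := K) (L₂ := K) ψ (𝟙 K)
    (curriedTensor (ModuleCat.{u} A)) (ComplexShape.up ℤ)
  exact ((Category.assoc _ _ _).symm.trans (congrArg (· ≫ _) h1)).trans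
    ((Category.assoc _ _ _).trans ((congrArg (_ ≫ ·) h2).trans (Category.assoc _ _ _).symm))

variable (n : ℕ)

/-- The chosen resolution, as a cochain complex. -/
noncomputable abbrev res (N : ModuleCat.{u} A) : DRing.Cx A := (projectiveResolution N).cochainComplex

/-- The chosen lift of a morphism. -/
noncomputable def liftHom {N N' : ModuleCat.{u} A} (g : N ⟶ N') :
    ProjectiveResolution.Hom (projectiveResolution N) (projectiveResolution N') g where
  hom := ProjectiveResolution.lift g _ _
  hom_f_zero_comp_π_f_zero := (ProjectiveResolution.lift_commutes_zero g _ _).trans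
    (congrArg (_ ≫ ·) (ChainComplex.single₀_map_f_zero g).symm)

/-- The lift of a morphism, on cochain complexes. -/
noncomputable abbrev resMap {N N' : ModuleCat.{u} A} (g : N ⟶ N') : res N ⟶ res N' := (liftHom g).hom'

theorem resMap_π {N N' : ModuleCat.{u} A} (g : N ⟶ N') :
    resMap g ≫ (projectiveResolution N').π' =
      (projectiveResolution N).π' ≫ (single (ModuleCat.{u} A) (ComplexShape.up ℤ) 0).map g :=
  (liftHom g).hom'_comp_π'

/-- `H(Q_N ⊗ M)` with `M` placed in degree zero. -/
noncomputable abbrev mid (M N : ModuleCat.{u} A) : ModuleCat.{u} A :=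
  (((KF.tensorCx (R := A)).obj (res N)).obj
    ((single (ModuleCat.{u} A) (ComplexShape.up ℤ) 0).obj M)).homology (-(n : ℤ))

/-- `H(Q_N ⊗ P_M)`. -/
noncomputable abbrev big (M N : ModuleCat.{u} A) : ModuleCat.{u} A :=
  (((KF.tensorCx (R := A)).obj (res N)).obj (res M)).homology (-(n : ℤ))

/-- `Tor` as `H(Q_N ⊗ M)`. -/
noncomputable def α (M N : ModuleCat.{u} A) :
    ((CategoryTheory.Tor (ModuleCat.{u} A) n).obj M).obj N ≅ mid n M N :=
  TorBal22.torIso M (projectiveResolution N) n ≪≫
    TorBal22.homologyTensorIso (projectiveResolution N) M n ≪≫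
    homologyMapIso (KF.singleIso (res N) M) (-(n : ℤ))

theorem homologyTensorIso_natural_left {N N' : ModuleCat.{u} A} (M : ModuleCat.{u} A) (g : N ⟶ N') :
    homologyMap (((tensorRight M).mapHomologicalComplex (ComplexShape.down ℕ)).map (liftHom g).hom) n ≫
        (TorBal22.homologyTensorIso (projectiveResolution N') M n).hom =
      (TorBal22.homologyTensorIso (projectiveResolution N) M n).hom ≫
        homologyMap (((tensorRight M).mapHomologicalComplex (ComplexShape.up ℤ)).map (resMap g)) (-(n : ℤ)) := by
  have h := extendHomologyIso_natural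
    (((tensorRight M).mapHomologicalComplex (ComplexShape.down ℕ)).map (liftHom g).hom)
    ComplexShape.embeddingDownNat (j := n) (j' := -(n : ℤ)) rfl
  have h' := congrArg (fun t => homologyMap t (-(n : ℤ)))
    (mapExtendIso_natural (tensorRight M) (liftHom g).hom ComplexShape.embeddingDownNat)
  simp only [homologyMap_comp] at h'
  exact ((CommSq.mk h.symm).horiz_inv.horiz_comp
    ((CommSq.mk (h'.symm)).horiz_inv (f := homologyMapIso (TorBal22.mapExtendIso (tensorRight M)
      (projectiveResolution N).complex ComplexShape.embeddingDownNat) (-(n : ℤ)))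
      (i := homologyMapIso (TorBal22.mapExtendIso (tensorRight M)
      (projectiveResolution N').complex ComplexShape.embeddingDownNat) (-(n : ℤ))))).w.symm

theorem homologyTensorIso_natural_right (N : ModuleCat.{u} A) {M M' : ModuleCat.{u} A} (f : M ⟶ M') :
    homologyMap ((NatTrans.mapHomologicalComplex ((tensoringRight (ModuleCat.{u} A)).map f)
          (ComplexShape.down ℕ)).app (projectiveResolution N).complex) n ≫
        (TorBal22.homologyTensorIso (projectiveResolution N) M' n).hom =
      (TorBal22.homologyTensorIso (projectiveResolution N) M n).hom ≫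
        homologyMap ((NatTrans.mapHomologicalComplex ((tensoringRight (ModuleCat.{u} A)).map f)
          (ComplexShape.up ℤ)).app (res N)) (-(n : ℤ)) := by
  have h := extendHomologyIso_natural
    ((NatTrans.mapHomologicalComplex ((tensoringRight (ModuleCat.{u} A)).map f)
      (ComplexShape.down ℕ)).app (projectiveResolution N).complex)
    ComplexShape.embeddingDownNat (j := n) (j' := -(n : ℤ)) rfl
  have h' := congrArg (fun t => homologyMap t (-(n : ℤ)))
    (mapExtendIso_natural_functor ((tensoringRight (ModuleCat.{u} A)).map f)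
      (projectiveResolution N).complex ComplexShape.embeddingDownNat)
  simp only [homologyMap_comp] at h'
  exact ((CommSq.mk h.symm).horiz_inv.horiz_comp
    ((CommSq.mk (h'.symm)).horiz_inv (f := homologyMapIso (TorBal22.mapExtendIso (tensorRight M)
      (projectiveResolution N).complex ComplexShape.embeddingDownNat) (-(n : ℤ)))
      (i := homologyMapIso (TorBal22.mapExtendIso (tensorRight M')
      (projectiveResolution N).complex ComplexShape.embeddingDownNat) (-(n : ℤ))))).w.symm

theorem torIso_natural_left (M : ModuleCat.{u} A) {N N' : ModuleCat.{u} A} (g : N ⟶ N') :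
    ((CategoryTheory.Tor (ModuleCat.{u} A) n).obj M).map g ≫
        (TorBal22.torIso M (projectiveResolution N') n).hom =
      (TorBal22.torIso M (projectiveResolution N) n).hom ≫
        homologyMap (((tensorRight M).mapHomologicalComplex (ComplexShape.down ℕ)).map (liftHom g).hom) n := by
  have h := ProjectiveResolution.isoLeftDerivedObj_hom_naturality g (projectiveResolution N)
    (projectiveResolution N') (liftHom g).hom (ProjectiveResolution.lift_commutes_zero g _ _)
    (tensorLeft M) n
  show ((tensorLeft M).leftDerived n).map g ≫ (_ ≫ homologyMap _ n) = (_ ≫ homologyMap _ n) ≫ _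
  refine (Category.assoc _ _ _).symm.trans ((congrArg (· ≫ _) h).trans ?_)
  refine ((Category.assoc _ _ _).trans ?_).trans (Category.assoc _ _ _).symm
  congr 1
  show homologyMap _ n ≫ homologyMap _ n = _
  rw [← homologyMap_comp, ← homologyMap_comp]
  exact congrArg (fun t => homologyMap t n)
    ((NatTrans.mapHomologicalComplex (BraidedCategory.tensorLeftIsoTensorRight M).hom
      (ComplexShape.down ℕ)).naturality (liftHom g).hom)

theorem torIso_natural_right (N : ModuleCat.{u} A) {M M' : ModuleCat.{u} A} (f : M ⟶ M') :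
    ((CategoryTheory.Tor (ModuleCat.{u} A) n).map f).app N ≫
        (TorBal22.torIso M' (projectiveResolution N) n).hom =
      (TorBal22.torIso M (projectiveResolution N) n).hom ≫
        homologyMap ((NatTrans.mapHomologicalComplex ((tensoringRight (ModuleCat.{u} A)).map f)
          (ComplexShape.down ℕ)).app (projectiveResolution N).complex) n := by
  show (NatTrans.leftDerived ((tensoringLeft (ModuleCat.{u} A)).map f) n).app N ≫ (_ ≫ homologyMap _ n) =
    (_ ≫ homologyMap _ n) ≫ _
  rw [ProjectiveResolution.leftDerived_app_eq ((tensoringLeft (ModuleCat.{u} A)).map f)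
    (projectiveResolution N) n, Category.assoc, Category.assoc, Category.assoc]
  refine (congrArg (fun t => _ ≫ _ ≫ t) (Iso.inv_hom_id_assoc _ _)).trans ?_
  congr 1
  show homologyMap _ n ≫ homologyMap _ n = _
  rw [← homologyMap_comp, ← homologyMap_comp]
  refine congrArg (fun t => homologyMap t n) (HomologicalComplex.hom_ext _ _ fun k => ?_)
  exact BraidedCategory.braiding_naturality_left f ((projectiveResolution N).complex.X k)

theorem α_natural_left (M : ModuleCat.{u} A) {N N' : ModuleCat.{u} A} (g : N ⟶ N') :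
    ((CategoryTheory.Tor (ModuleCat.{u} A) n).obj M).map g ≫ (α n M N').hom =
      (α n M N).hom ≫ homologyMap (((KF.tensorCx (R := A)).map (resMap g)).app
        ((single (ModuleCat.{u} A) (ComplexShape.up ℤ) 0).obj M)) (-(n : ℤ)) := by
  have hs := congrArg (fun t => homologyMap t (-(n : ℤ))) (singleIso_natural_left (resMap g) M)
  simp only [homologyMap_comp] at hs
  exact ((CommSq.mk (torIso_natural_left n M g)).vert_comp
    ((CommSq.mk (homologyTensorIso_natural_left n M g)).vert_comp (CommSq.mk hs))).w

theorem α_natural_right (N : ModuleCat.{u} A) {M M' : ModuleCat.{u} A} (f : M ⟶ M') :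
    ((CategoryTheory.Tor (ModuleCat.{u} A) n).map f).app N ≫ (α n M' N).hom =
      (α n M N).hom ≫ homologyMap (((KF.tensorCx (R := A)).obj (res N)).map
        ((single (ModuleCat.{u} A) (ComplexShape.up ℤ) 0).map f)) (-(n : ℤ)) := by
  have hs := congrArg (fun t => homologyMap t (-(n : ℤ))) (singleIso_natural_right (res N) f)
  simp only [homologyMap_comp] at hs
  exact ((CommSq.mk (torIso_natural_right n N f)).vert_comp
    ((CommSq.mk (homologyTensorIso_natural_right n N f)).vert_comp (CommSq.mk hs))).w

/-- Resolving `M` does not change the homology. -/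
noncomputable def β (M N : ModuleCat.{u} A) : big n M N ≅ mid n M N :=
  haveI : QuasiIso (((KF.tensorCx (R := A)).obj (res N)).map (projectiveResolution M).π') :=
    @KF.quasiIso_tensor_map_of_isKFlat _ _ _ _ _ (inferInstanceAs (QuasiIso (projectiveResolution M).π')) _
      (KF.isKFlat_cochainComplex (projectiveResolution N))
  isoOfQuasiIsoAt (((KF.tensorCx (R := A)).obj (res N)).map (projectiveResolution M).π') (-(n : ℤ))

theorem β_hom (M N : ModuleCat.{u} A) :
    (β n M N).hom = homologyMap (((KF.tensorCx (R := A)).obj (res N)).map (projectiveResolution M).π') (-(n : ℤ)) :=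
  rfl

theorem β_natural_left (M : ModuleCat.{u} A) {N N' : ModuleCat.{u} A} (g : N ⟶ N') :
    homologyMap (((KF.tensorCx (R := A)).map (resMap g)).app (res M)) (-(n : ℤ)) ≫ (β n M N').hom =
      (β n M N).hom ≫ homologyMap (((KF.tensorCx (R := A)).map (resMap g)).app
        ((single (ModuleCat.{u} A) (ComplexShape.up ℤ) 0).obj M)) (-(n : ℤ)) := by
  exact ((homologyMap_comp _ _ _).symm.trans (congrArg (fun t => homologyMap t (-(n : ℤ)))
    (((KF.tensorCx (R := A)).map (resMap g)).naturality (projectiveResolution M).π').symm)).trans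
      (homologyMap_comp _ _ _)

theorem β_natural_right (N : ModuleCat.{u} A) {M M' : ModuleCat.{u} A} (f : M ⟶ M') :
    homologyMap (((KF.tensorCx (R := A)).obj (res N)).map (resMap f)) (-(n : ℤ)) ≫ (β n M' N).hom =
      (β n M N).hom ≫ homologyMap (((KF.tensorCx (R := A)).obj (res N)).map
        ((single (ModuleCat.{u} A) (ComplexShape.up ℤ) 0).map f)) (-(n : ℤ)) := by
  exact ((homologyMap_comp _ _ _).symm.trans (congrArg (fun t => homologyMap t (-(n : ℤ)))
    (((Functor.map_comp _ _ _).symm.trans
      (congrArg ((KF.tensorCx (R := A)).obj (res N)).map (resMap_π f))).trans (Functor.map_comp _ _ _)))).trans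
      (homologyMap_comp _ _ _)

/-- The balance isomorphism. -/
noncomputable def θ (M N : ModuleCat.{u} A) :
    ((CategoryTheory.Tor (ModuleCat.{u} A) n).obj M).obj N ≅
      ((CategoryTheory.Tor (ModuleCat.{u} A) n).obj N).obj M :=
  α n M N ≪≫ (β n M N).symm ≪≫
    homologyMapIso (KF.tensorCxSymm (res M) (res N)) (-(n : ℤ)) ≪≫ β n N M ≪≫ (α n N M).symm

theorem θ_natural_left (M : ModuleCat.{u} A) {N N' : ModuleCat.{u} A} (g : N ⟶ N') :
    ((CategoryTheory.Tor (ModuleCat.{u} A) n).obj M).map g ≫ (θ n M N').hom =
      (θ n M N).hom ≫ ((CategoryTheory.Tor (ModuleCat.{u} A) n).map g).app M := by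
  have h₂ := congrArg (fun t => homologyMap t (-(n : ℤ))) (KF.tensorCxSymm_natural (resMap g) (res M))
  simp only [homologyMap_comp] at h₂
  exact ((CommSq.mk (α_natural_left n M g)).vert_comp
    (((CommSq.mk (β_natural_left n M g)).vert_inv (g := β n M N) (h := β n M N')).vert_comp
      ((CommSq.mk h₂).vert_comp ((CommSq.mk (β_natural_right n M g)).vert_comp
        ((CommSq.mk (α_natural_right n M g)).vert_inv (g := α n N M) (h := α n N' M)))))).w

theorem θ_natural_right (N : ModuleCat.{u} A) {M M' : ModuleCat.{u} A} (f : M ⟶ M') :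
    ((CategoryTheory.Tor (ModuleCat.{u} A) n).map f).app N ≫ (θ n M' N).hom =
      (θ n M N).hom ≫ ((CategoryTheory.Tor (ModuleCat.{u} A) n).obj N).map f := by
  have h₂ := congrArg (fun t => homologyMap t (-(n : ℤ))) (tensorCxSymm_natural_right (res N) (resMap f))
  simp only [homologyMap_comp] at h₂
  exact ((CommSq.mk (α_natural_right n N f)).vert_comp
    (((CommSq.mk (β_natural_right n N f)).vert_inv (g := β n M N) (h := β n M' N)).vert_comp
      ((CommSq.mk h₂).vert_comp ((CommSq.mk (β_natural_left n N f)).vert_comp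
        ((CommSq.mk (α_natural_left n N f)).vert_inv (g := α n N M) (h := α n N M')))))).w

/-- `Tor` is its own flip. -/
noncomputable def torFlipIso :
    CategoryTheory.Tor (ModuleCat.{u} A) n ≅ (CategoryTheory.Tor (ModuleCat.{u} A) n).flip :=
  NatIso.ofComponents (fun M => NatIso.ofComponents (fun N => θ n M N) fun g => θ_natural_left n M g)
    fun f => NatTrans.ext (funext fun N => θ_natural_right n N f)

end GrothLib.TorFlipNat
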